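import Groth.Agent.CIBert31.Reg
import Groth.Agent.E4O.DimField
import Mathlib.RingTheory.Nullstellensatz
import Mathlib.RingTheory.GradedAlgebra.Radical
import Mathlib.RingTheory.MvPolynomial.Homogeneous
import Mathlib.Algebra.MvPolynomial.PDeriv
import Mathlib.RingTheory.RegularLocalRing.Polynomial

/-!
Smooth complete intersection cones: height and regularity away from the vertex.
-/

set_option autoImplicit false
set_option linter.style.haveILetI false
universe u

namespace Groth.Agent.CIBert31

open MvPolynomial IsLocalRing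

variable {k : Type u} [Field k] {n r : ℕ}

/-- The Jacobian rows are independent at every common zero other than the vertex. -/
def Smooth (f : Fin r → MvPolynomial (Fin (n + 1)) k) : Prop :=
  ∀ y : Fin (n + 1) → k, y ≠ 0 → (∀ i, eval y (f i) = 0) →
    LinearIndependent k (fun i => fun l => eval y (pderiv l (f i)))

/-- The vertex. -/
noncomputable abbrev vertex (k : Type u) [Field k] (n : ℕ) : Ideal (MvPolynomial (Fin (n + 1)) k) :=
  RingHom.ker (eval (0 : Fin (n + 1) → k))

theorem isMaximal_ker_eval (y : Fin (n + 1) → k) : (RingHom.ker (eval y)).IsMaximal :=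
  RingHom.ker_isMaximal_of_surjective _ fun c => ⟨C c, eval_C c⟩

theorem exists_eval_of_isMaximal [IsAlgClosed k] (M : Ideal (MvPolynomial (Fin (n + 1)) k))
    [hM : M.IsMaximal] : ∃ y : Fin (n + 1) → k, M = RingHom.ker (eval y) := by
  obtain ⟨y, hy⟩ := eq_vanishingIdeal_singleton_of_isMaximal (k := k) k hM
  refine ⟨y, ?_⟩
  rw [hy]
  ext p
  rw [mem_vanishingIdeal_singleton_iff, RingHom.mem_ker]
  rfl

theorem height_vertex : (vertex k n).height = (n + 1 : ℕ) := by
  have := isMaximal_ker_eval (0 : Fin (n + 1) → k)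
  rw [E4O.height_maximal_eq k (MvPolynomial (Fin (n + 1)) k) (vertex k n),
    MvPolynomial.trdeg_of_isDomain]
  simp

theorem eval_pderiv_eq_zero_of_mem_sq (y : Fin (n + 1) → k) {p : MvPolynomial (Fin (n + 1)) k}
    (hp : p ∈ RingHom.ker (eval y) ^ 2) (l : Fin (n + 1)) : eval y (pderiv l p) = 0 := by
  rw [pow_two] at hp
  refine Submodule.mul_induction_on hp (fun a ha b hb => ?_) fun a b ha hb => ?_
  · rw [RingHom.mem_ker] at ha hb
    rw [pderiv_mul, map_add, map_mul, map_mul, ha, hb, mul_zero, zero_mul, add_zero]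
  · rw [map_add, map_add, ha, hb, add_zero]

variable (f : Fin r → MvPolynomial (Fin (n + 1)) k)

theorem indepSq_atPrime (y : Fin (n + 1) → k) (hy : ∀ i, eval y (f i) = 0)
    (hli : LinearIndependent k (fun i => fun l => eval y (pderiv l (f i))))
    (M : Ideal (MvPolynomial (Fin (n + 1)) k)) [M.IsPrime] (hM : M = RingHom.ker (eval y)) :
    IndepSq (fun i => algebraMap _ (Localization.AtPrime M) (f i)) := by
  classical
  intro a ha
  obtain ⟨t, ht⟩ := IsLocalization.exist_integer_multiples M.primeCompl Finset.univ a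
  choose s hs using fun i => ht i (Finset.mem_univ i)
  have hsum : algebraMap _ (Localization.AtPrime M) (∑ i, s i * f i) ∈
      maximalIdeal (Localization.AtPrime M) ^ 2 := by
    have : algebraMap _ (Localization.AtPrime M) (∑ i, s i * f i) =
        (t : MvPolynomial (Fin (n + 1)) k) • ∑ i, a i * algebraMap _ (Localization.AtPrime M) (f i) := by
      rw [map_sum, Finset.smul_sum]
      refine Finset.sum_congr rfl fun i _ => ?_
      rw [map_mul, hs, smul_mul_assoc]
    rw [this, Algebra.smul_def]
    exact Ideal.mul_mem_left _ _ ha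
  rw [← Localization.AtPrime.map_eq_maximalIdeal, ← Ideal.map_pow,
    IsLocalization.algebraMap_mem_map_algebraMap_iff M.primeCompl] at hsum
  obtain ⟨u, hu, hus⟩ := hsum
  have hu' : eval y u ≠ 0 := fun h => hu (hM ▸ RingHom.mem_ker.2 h)
  have hzero : ∀ l, ∑ i, eval y (s i) * eval y (pderiv l (f i)) = 0 := by
    intro l
    subst hM
    have h := eval_pderiv_eq_zero_of_mem_sq y hus l
    rw [pderiv_mul, map_add, map_mul, map_mul, map_sum (eval y)] at h
    simp only [map_mul, hy, mul_zero, Finset.sum_const_zero, zero_add] at h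
    have h' := (mul_eq_zero.1 h).resolve_left hu'
    rw [map_sum, map_sum] at h'
    simpa [pderiv_mul, hy] using h'
  intro i
  have hsi : eval y (s i) = 0 := Fintype.linearIndependent_iff.1 hli (fun i => eval y (s i)) (by
    ext l
    simpa [Finset.sum_apply, smul_eq_mul] using hzero l) i
  have hmem : algebraMap _ (Localization.AtPrime M) (s i) ∈ maximalIdeal (Localization.AtPrime M) := by
    rw [← Localization.AtPrime.map_eq_maximalIdeal]
    exact Ideal.mem_map_of_mem _ (hM ▸ RingHom.mem_ker.2 hsi)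
  rw [hs, Algebra.smul_def] at hmem
  exact (Ideal.unit_mul_mem_iff_mem _ (IsLocalization.map_units _ t)).1 hmem

variable [IsAlgClosed k]

theorem exists_point_of_prime_ne_vertex (P : Ideal (MvPolynomial (Fin (n + 1)) k)) [hP : P.IsPrime]
    (h : P ≠ vertex k n) : ∃ y : Fin (n + 1) → k, y ≠ 0 ∧ P ≤ RingHom.ker (eval y) := by
  by_contra hne
  push Not at hne
  refine h ?_
  have hjac : P.jacobson = P :=
    isJacobsonRing_iff.1 inferInstance P hP.isRadical
  have hall : ∀ M : Ideal (MvPolynomial (Fin (n + 1)) k), P ≤ M → M.IsMaximal → M = vertex k n := by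
    intro M hPM hM
    obtain ⟨y, rfl⟩ := exists_eval_of_isMaximal M
    rcases eq_or_ne y 0 with rfl | hy
    · rfl
    · exact absurd hPM (hne y hy)
  refine le_antisymm ?_ (hjac ▸ le_sInf fun M hM => (hall M hM.1 hM.2).ge)
  obtain ⟨M, hM, hPM⟩ := Ideal.exists_le_maximal P hP.ne_top
  exact hPM.trans (hall M hPM hM).le

theorem height_minimalPrime_eq (hr : r ≤ n) (hf : Smooth f)
    (P : Ideal (MvPolynomial (Fin (n + 1)) k)) (hP : P ∈ (Ideal.span (Set.range f)).minimalPrimes) :
    P.height = r := by
  classical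
  have hPp : P.IsPrime := hP.1.1
  have hle : P.height ≤ r :=
    (Ideal.height_le_card_of_mem_minimalPrimes_span (Set.finite_range f) hP).trans (by
      rw [Nat.cast_le, ← Set.image_univ]
      exact (Set.ncard_image_le Set.finite_univ).trans (by simp))
  refine le_antisymm hle ?_
  have hne : P ≠ vertex k n := fun h => by
    rw [h, height_vertex, Nat.cast_le] at hle
    omega
  obtain ⟨y, hy0, hPy⟩ := exists_point_of_prime_ne_vertex P hne
  have hy : ∀ i, eval y (f i) = 0 := fun i =>
    RingHom.mem_ker.1 (hPy (hP.1.2 (Ideal.subset_span ⟨i, rfl⟩)))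
  have := isMaximal_ker_eval (n := n) y
  have hreg : IsRegularLocalRing (Localization.AtPrime (RingHom.ker (eval y))) :=
    isRegularRing_iff.1 inferInstance _
  have h1 := le_height_indep r _ (fun i => by
    rw [← Localization.AtPrime.map_eq_maximalIdeal]
    exact Ideal.mem_map_of_mem (algebraMap _ (Localization.AtPrime (RingHom.ker (eval y))))
      (RingHom.mem_ker.2 (hy i)))
    (indepSq_atPrime f y hy (hf y hy0 hy) _ rfl)
  refine h1.trans ?_
  rw [← IsLocalization.height_map_of_disjoint (S := Localization.AtPrime (RingHom.ker (eval y))) (RingHom.ker (eval y)).primeCompl (p := P) (by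
    exact Set.disjoint_left.2 fun x hx hxP => hx (hPy hxP))]
  refine Ideal.height_mono ?_
  rw [Ideal.span_le]
  rintro _ ⟨i, rfl⟩
  exact Ideal.mem_map_of_mem _ (hP.1.2 (Ideal.subset_span ⟨i, rfl⟩))

theorem height_span_eq (hr : r ≤ n) (hf : Smooth f) (h0 : ∀ i, eval 0 (f i) = 0) :
    (Ideal.span (Set.range f)).height = r := by
  rw [Ideal.height_eq_inf_minimalPrimes]
  have hne : Ideal.span (Set.range f) ≠ ⊤ := by
    intro h
    have : Ideal.span (Set.range f) ≤ vertex k n := Ideal.span_le.2 (by
      rintro _ ⟨i, rfl⟩; exact h0 i)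
    exact (isMaximal_ker_eval (0 : Fin (n + 1) → k)).ne_top (top_le_iff.1 (h ▸ this))
  obtain ⟨P, hP⟩ := Ideal.nonempty_minimalPrimes hne
  refine le_antisymm ((iInf₂_le P hP).trans (height_minimalPrime_eq f hr hf P hP).le)
    (le_iInf₂ fun P hP => (height_minimalPrime_eq f hr hf P hP).ge)

omit [IsAlgClosed k] in
theorem minimalPrime_le_vertex {d : Fin r → ℕ} (hf : ∀ i, (f i).IsHomogeneous (d i))
    (P : Ideal (MvPolynomial (Fin (n + 1)) k)) (hP : P ∈ (Ideal.span (Set.range f)).minimalPrimes) :
    P ≤ vertex k n := by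
  classical
  let := MvPolynomial.gradedAlgebra (σ := Fin (n + 1)) (R := k)
  have hPp : P.IsPrime := hP.1.1
  let Q := (P.homogeneousCore (homogeneousSubmodule (Fin (n + 1)) k)).toIdeal
  have hQ : Q.IsHomogeneous (homogeneousSubmodule (Fin (n + 1)) k) :=
    HomogeneousIdeal.isHomogeneous _
  have hQP : Q ≤ P := Ideal.toIdeal_homogeneousCore_le _ P
  have hJQ : Ideal.span (Set.range f) ≤ Q := Ideal.span_le.2 (by
    rintro _ ⟨i, rfl⟩
    exact Ideal.mem_homogeneousCore_of_homogeneous_of_mem ⟨d i, hf i⟩
      (hP.1.2 (Ideal.subset_span ⟨i, rfl⟩)))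
  have hPQ : P ≤ Q := hP.2 ⟨hPp.homogeneousCore, hJQ⟩ hQP
  intro p hp
  have h0 := (MvPolynomial.mem_iff_homogeneousComponent_mem hQ p).1 (hPQ hp) 0
  rw [homogeneousComponent_zero] at h0
  rw [RingHom.mem_ker, ← constantCoeff_eq, ← eval_zero] at *
  by_contra hc
  refine hPp.ne_top (Ideal.eq_top_of_isUnit_mem _ (hQP h0) ?_)
  exact (isUnit_iff_ne_zero.2 hc).map C

/-- Regularity of a quotient at a prime, from regularity at a larger prime. -/
theorem regular_atPrime_quotient {S : Type u} [CommRing S] (J M : Ideal S) [M.IsPrime] (hJM : J ≤ M)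
    (hreg1 : IsRegularLocalRing (Localization.AtPrime M ⧸ J.map (algebraMap S (Localization.AtPrime M))))
    (Q : Ideal (S ⧸ J)) [Q.IsPrime] (hQ : Q.comap (Ideal.Quotient.mk J) ≤ M) :
    IsRegularLocalRing (Localization.AtPrime Q) := by
  set L := Localization.AtPrime M
  set JL := J.map (algebraMap S L) with hJLdef
  set M' := M.map (Ideal.Quotient.mk J) with hM'
  have hcm : M'.comap (Ideal.Quotient.mk J) = M := by
    rw [hM', Ideal.comap_map_of_surjective _ Ideal.Quotient.mk_surjective, ← RingHom.ker_eq_comap_bot,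
      Ideal.mk_ker, sup_eq_left]
    exact hJM
  have hM'p : M'.IsPrime := by
    rw [hM']
    exact Ideal.map_isPrime_of_surjective Ideal.Quotient.mk_surjective (by rw [Ideal.mk_ker]; exact hJM)
  letI : Algebra (S ⧸ J) (L ⧸ JL) :=
    (Ideal.quotientMap JL (algebraMap S L) Ideal.le_comap_map).toAlgebra
  haveI : IsLocalization.AtPrime (L ⧸ JL) M' := by
    have h := IsLocalization.of_surjective M.primeCompl L (R' := S ⧸ J)
      (S' := L ⧸ JL) (Ideal.Quotient.mk J) Ideal.Quotient.mk_surjective (Ideal.Quotient.mk JL)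
      Ideal.Quotient.mk_surjective rfl (by rw [Ideal.mk_ker, Ideal.mk_ker])
    have hMc : M.primeCompl.map (Ideal.Quotient.mk J : S →* S ⧸ J) = M'.primeCompl := by
      ext x
      constructor
      · rintro ⟨z, hz, rfl⟩
        exact fun hx => hz (hcm ▸ hx)
      · intro hx
        obtain ⟨z, rfl⟩ := Ideal.Quotient.mk_surjective x
        exact ⟨z, fun hz => hx (Ideal.mem_map_of_mem _ hz), rfl⟩
    show IsLocalization M'.primeCompl (L ⧸ JL)
    rw [← hMc]
    exact h
  have hreg : IsRegularLocalRing (Localization.AtPrime M') :=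
    IsRegularLocalRing.of_ringEquiv
      (IsLocalization.algEquiv M'.primeCompl (L ⧸ JL) (Localization.AtPrime M')).toRingEquiv
  have hQM : Q ≤ M' := by
    rw [← Ideal.map_comap_of_surjective (Ideal.Quotient.mk J) Ideal.Quotient.mk_surjective Q, hM']
    exact Ideal.map_mono hQ
  set Qb := Q.map (algebraMap _ (Localization.AtPrime M')) with hQb
  have hdisj : Disjoint (M'.primeCompl : Set (S ⧸ J)) ↑Q :=
    Set.disjoint_left.2 fun x hx hxQ => hx (hQM hxQ)
  have hQbp : Qb.IsPrime :=
    IsLocalization.isPrime_of_isPrime_disjoint M'.primeCompl _ Q inferInstance hdisj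
  have hQc : Qb.comap (algebraMap _ (Localization.AtPrime M')) = Q :=
    IsLocalization.under_map_of_isPrime_disjoint M'.primeCompl _ inferInstance hdisj
  have hreg' := CAlg1.regular_localization (Localization.AtPrime M') Qb
  have hreg'' : IsRegularLocalRing (Localization.AtPrime (Qb.comap (algebraMap _ (Localization.AtPrime M')))) :=
    IsRegularLocalRing.of_ringEquiv (R := Localization.AtPrime Qb)
      (IsLocalization.localizationLocalizationAtPrimeIsoLocalization M'.primeCompl Qb).toRingEquiv.symm
  have key : ∀ (I : Ideal (S ⧸ J)) [I.IsPrime], I = Q →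
      IsRegularLocalRing (Localization.AtPrime I) → IsRegularLocalRing (Localization.AtPrime Q) := by
    intro I _ h; subst h; exact id
  exact key _ hQc hreg''

theorem regular_cone (hf : Smooth f) (J : Ideal (MvPolynomial (Fin (n + 1)) k))
    (hJ : J = Ideal.span (Set.range f)) (Q : Ideal (MvPolynomial (Fin (n + 1)) k ⧸ J))
    [Q.IsPrime] (hQ : ∃ j, Ideal.Quotient.mk J (X j) ∉ Q) :
    IsRegularLocalRing (Localization.AtPrime Q) := by
  classical
  let P := Q.comap (Ideal.Quotient.mk J)
  have hP : P.IsPrime := Q.comap_isPrime _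
  have hne : P ≠ vertex k n := by
    obtain ⟨j, hj⟩ := hQ
    intro h
    exact hj (show X j ∈ P from h ▸ (RingHom.mem_ker.2 (eval_X j)))
  obtain ⟨y, hy0, hPy⟩ := exists_point_of_prime_ne_vertex P hne
  have hJP : J ≤ P := fun x hx => by
    show Ideal.Quotient.mk J x ∈ Q
    rw [Ideal.Quotient.eq_zero_iff_mem.2 hx]; exact Q.zero_mem
  have hy : ∀ i, eval y (f i) = 0 := fun i =>
    RingHom.mem_ker.1 (hPy (hJP (hJ ▸ Ideal.subset_span ⟨i, rfl⟩)))
  have hmax := isMaximal_ker_eval (n := n) y
  refine regular_atPrime_quotient J (RingHom.ker (eval y)) (hJP.trans hPy) ?_ Q hPy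
  have hreg0 : IsRegularLocalRing (Localization.AtPrime (RingHom.ker (eval y))) :=
    isRegularRing_iff.1 inferInstance _
  have hJL : J.map (algebraMap _ (Localization.AtPrime (RingHom.ker (eval y)))) =
      Ideal.span (Set.range fun i => algebraMap _ (Localization.AtPrime (RingHom.ker (eval y))) (f i)) := by
    rw [hJ, Ideal.map_span, ← Set.range_comp]; rfl
  rw [hJL]
  exact regular_quotient_indep r _ (fun i => by
    rw [← Localization.AtPrime.map_eq_maximalIdeal]
    exact Ideal.mem_map_of_mem (algebraMap _ (Localization.AtPrime (RingHom.ker (eval y))))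
      (RingHom.mem_ker.2 (hy i)))
    (indepSq_atPrime f y hy (hf y hy0 hy) _ rfl)

end Groth.Agent.CIBert31
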