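import Groth.Agent.CIBert31.Cone
import Mathlib.RingTheory.FiniteType
import Mathlib.RingTheory.Ideal.GoingDown
import Mathlib.Algebra.MvPolynomial.Funext

/-!
A generic form meets a smooth complete intersection cone smoothly: the bad parameters
lie in a hypersurface of the parameter space.
-/

set_option autoImplicit false
universe u

namespace Groth.Agent.CIBert31

open MvPolynomial

variable {k : Type u} [Field k] {n s : ℕ}

/-- The parameters: the coefficient of `X_a ^ e * X_l`. -/
abbrev Par (n : ℕ) := Fin (n + 1) × Fin (n + 1)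

/-- The monomial attached to a parameter. -/
noncomputable def mono (k : Type u) [Field k] (e : ℕ) (p : Par n) : MvPolynomial (Fin (n + 1)) k :=
  X p.1 ^ e * X p.2

/-- The member of the family with parameters `c`. -/
noncomputable def member (e : ℕ) (c : Par n → k) : MvPolynomial (Fin (n + 1)) k :=
  ∑ p, C (c p) * mono k e p

theorem isHomogeneous_member (e : ℕ) (c : Par n → k) : (member e c).IsHomogeneous (e + 1) :=
  IsHomogeneous.sum _ _ _ fun p _ => ((isHomogeneous_X_pow p.1 e).mul (isHomogeneous_X k p.2)).C_mul _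

theorem eval_smul_of_isHomogeneous {p : MvPolynomial (Fin (n + 1)) k} {m : ℕ} (hp : p.IsHomogeneous m)
    (t : k) (y : Fin (n + 1) → k) : eval (t • y) p = t ^ m * eval y p := by
  rw [eval_eq, eval_eq, Finset.mul_sum]
  refine Finset.sum_congr rfl fun a ha => ?_
  have hdeg : ∑ i ∈ a.support, a i = m := by
    have := hp.degree_eq_sum_deg_support ha
    simpa [Finsupp.degree] using this.symm
  simp only [Pi.smul_apply, smul_eq_mul, mul_pow, Finset.prod_mul_distrib, Finset.prod_pow_eq_pow_sum,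
    hdeg]
  ring

/-- The base ring. -/
abbrev S (k : Type u) [Field k] (n : ℕ) := MvPolynomial (Fin (n + 1)) k

variable (g : Fin s → MvPolynomial (Fin (n + 1)) k)

/-- Variables of the incidence chart. -/
abbrev Tau (n s : ℕ) (j : Fin (n + 1)) := {p : Par n // p.1 ≠ j} ⊕ Fin s

/-- The incidence chart. -/
abbrev T (k : Type u) [Field k] (n s : ℕ) (j : Fin (n + 1)) := MvPolynomial (Tau n s j) (S k n)

/-- The value at the point of the part with `p.1 ≠ j`. -/
noncomputable def rest (e : ℕ) (j : Fin (n + 1)) (D : S k n → S k n) : T k n s j :=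
  ∑ p : Par n, if h : p.1 ≠ j then X (Sum.inl ⟨p, h⟩) * C (D (mono k e p)) else 0

/-- The parametrisation of the incidence chart. -/
noncomputable def incl (e : ℕ) (j : Fin (n + 1)) : MvPolynomial (Par n) k →ₐ[k] T k n s j :=
  aeval fun p => if h : p.1 ≠ j then X (Sum.inl ⟨p, h⟩) else
    ∑ i, X (Sum.inr i) * C (pderiv p.2 (g i)) - rest e j (pderiv p.2)
      + (if p.2 = j then (e : T k n s j) * rest e j id else 0)

/-- The equations of the chart. -/
noncomputable def chartIdeal (j : Fin (n + 1)) : Ideal (T k n s j) :=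
  (Ideal.span (Set.range g ∪ {X j - 1})).map (C : S k n →+* T k n s j)

variable {g}

theorem exists_prime_trdeg_le {A B : Type u} [CommRing A] [IsDomain A] [Algebra k A] [CommRing B]
    [Algebra k B] (φ : A →ₐ[k] B) (K : Ideal B) (h : ∀ a, φ a ∈ K → a = 0) :
    ∃ Q : Ideal B, Q.IsPrime ∧ K ≤ Q ∧ Algebra.trdeg k A ≤ Algebra.trdeg k (B ⧸ Q) := by
  have hK : K.comap φ.toRingHom = ⊥ := le_antisymm (fun a ha => (Submodule.mem_bot A).2 (h a ha)) bot_le
  obtain ⟨Q, hQ, hKQ, hQc⟩ := Ideal.exists_comap_eq_of_mem_minimalPrimes φ.toRingHom (I := K)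
    (⊥ : Ideal A) (by rw [hK]; exact ⟨⟨Ideal.isPrime_bot, le_rfl⟩, fun J _ _ => bot_le⟩)
  refine ⟨Q, hQ, hKQ, trdeg_le_of_injective ((Ideal.Quotient.mkₐ k Q).comp φ) ?_⟩
  refine (injective_iff_map_eq_zero _).2 fun a ha => ?_
  have : φ a ∈ Q := Ideal.Quotient.eq_zero_iff_mem.1 ha
  replace this : a ∈ Q.comap φ.toRingHom := this
  rwa [hQc, Submodule.mem_bot] at this

variable [IsAlgClosed k]

theorem exists_ne_zero_mem_chartIdeal {d : Fin s → ℕ} (hd : ∀ i, (g i).IsHomogeneous (d i))
    (hs : s ≤ n) (hg : Smooth g) (e : ℕ) (j : Fin (n + 1)) :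
    ∃ h : MvPolynomial (Par n) k, h ≠ 0 ∧ incl g e j h ∈ chartIdeal g j := by
  classical
  by_contra hne
  push Not at hne
  obtain ⟨Q, hQp, hKQ, h1⟩ := exists_prime_trdeg_le (incl g e j) (chartIdeal g j)
    (fun h hh => by_contra fun h0 => hne h h0 hh)
  rw [MvPolynomial.trdeg_of_isDomain, Cardinal.mk_fintype, Cardinal.lift_natCast] at h1
  have hT : Algebra.trdeg k (T k n s j) = ((n + 1 + Fintype.card (Tau n s j) : ℕ) : Cardinal.{u}) := by
    rw [← trdeg_add_eq k (S k n) (A := T k n s j), MvPolynomial.trdeg_of_isDomain,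
      MvPolynomial.trdeg_of_isDomain, Cardinal.mk_fintype, Cardinal.mk_fintype, Cardinal.lift_natCast,
      Cardinal.lift_natCast, Fintype.card_fin]
    push_cast
    ring
  set P : Ideal (S k n) := Q.comap (C : S k n →+* T k n s j) with hPdef
  have hPp : P.IsPrime := hQp.comap _
  have hmemP : ∀ x ∈ Set.range g ∪ {X j - 1}, x ∈ P := fun x hx =>
    hKQ (Ideal.mem_map_of_mem _ (Ideal.subset_span hx))
  obtain ⟨P0, hP0, hP0P⟩ := Ideal.exists_minimalPrimes_le (I := Ideal.span (Set.range g)) (J := P)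
    (Ideal.span_le.2 fun x hx => hmemP x (Or.inl hx))
  have hP0p : P0.IsPrime := hP0.1.1
  have hlt : P0 < P := by
    refine lt_of_le_of_ne hP0P fun h => ?_
    have h' := minimalPrime_le_vertex g hd P0 hP0 (h.symm ▸ hmemP _ (Or.inr rfl))
    rw [RingHom.mem_ker, map_sub, eval_X, map_one, Pi.zero_apply, zero_sub] at h'
    exact one_ne_zero (neg_eq_zero.1 h')
  have hPh : ((s + 1 : ℕ) : ℕ∞) ≤ P.height := by
    rw [Nat.cast_add, Nat.cast_one, ← height_minimalPrime_eq g hs hg P0 hP0]
    exact Ideal.height_add_one_le_of_lt_of_isPrime hlt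
  have hQh : ((s + 1 : ℕ) : ℕ∞) ≤ Q.height := by
    have : Q.LiesOver P := ⟨by rw [hPdef]; rfl⟩
    refine hPh.trans ?_
    rw [Ideal.height_eq_height_add_of_liesOver_of_hasGoingDown P Q]
    exact le_self_add
  have : Algebra.FiniteType k (T k n s j) :=
    Algebra.FiniteType.trans (S := S k n) inferInstance inferInstance
  have h2 := E4O.height_add_trdeg_eq k (T k n s j) Q
  rw [hT, E4O.trdeg_eq_natCast k (T k n s j ⧸ Q)] at h2
  rw [E4O.trdeg_eq_natCast k (T k n s j ⧸ Q), Nat.cast_le] at h1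
  have hfin : Q.height ≠ ⊤ := by
    intro h
    rw [h, Cardinal.ofENat_top] at h2
    exact absurd ((self_le_add_right Cardinal.aleph0 _).trans_eq h2) (not_le.2 (Cardinal.natCast_lt_aleph0))
  obtain ⟨q0, hq0⟩ := ENat.ne_top_iff_exists.1 hfin
  rw [← hq0, Nat.cast_le] at hQh
  rw [← hq0, Cardinal.ofENat_nat, ← Nat.cast_add, Nat.cast_inj] at h2
  have hcard : Fintype.card (Tau n s j) + (n + 1) = Fintype.card (Par n) + s := by
    rw [Fintype.card_sum, Fintype.card_fin, Fintype.card_subtype_compl]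
    have h3 : Fintype.card {p : Par n // p.1 = j} = n + 1 := by
      rw [Fintype.card_congr (β := Fin (n + 1))
        ⟨fun p => p.1.2, fun l => ⟨(j, l), rfl⟩, fun ⟨⟨a, l⟩, h⟩ => by cases h; rfl, fun l => rfl⟩,
        Fintype.card_fin]
    have h4 := Fintype.card_subtype_le (fun p : Par n => p.1 = j)
    rw [h3] at h4 ⊢
    omega
  omega

omit [IsAlgClosed k] in
theorem eval_pderiv_mono (e : ℕ) (j l m : Fin (n + 1)) (y : Fin (n + 1) → k) (hy : y j = 1) :
    eval y (pderiv l (mono k e (j, m))) =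
      (if l = j then (e : k) * y m else 0) + (if l = m then 1 else 0) := by
  classical
  rw [mono, pderiv_mul, pderiv_pow, pderiv_X, pderiv_X]
  rcases eq_or_ne l j with rfl | h1 <;> rcases eq_or_ne l m with rfl | h2 <;>
    simp_all [eq_comm]

omit [IsAlgClosed k] in
theorem eval_mem_zero_of_bad (e : ℕ) (j : Fin (n + 1)) (c : Par n → k) (y : Fin (n + 1) → k) (hyj : y j = 1)
    (hgy : ∀ i, eval y (g i) = 0) (hfy : eval y (member e c) = 0) (a : Fin s → k)
    (hbad : ∀ l, eval y (pderiv l (member e c)) = ∑ i, a i * eval y (pderiv l (g i)))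
    (h : MvPolynomial (Par n) k) (hh : incl g e j h ∈ chartIdeal g j) : eval c h = 0 := by
  classical
  let ψ : T k n s j →+* k := eval₂Hom (eval y) (Sum.elim (fun p => c p.1) a)
  have hψK : chartIdeal g j ≤ RingHom.ker ψ := by
    rw [chartIdeal, Ideal.map_le_iff_le_comap, Ideal.span_le]
    rintro x (⟨i, rfl⟩ | hx)
    · simp [ψ, hgy]
    · rw [Set.mem_singleton_iff.1 hx]
      simp [ψ, hyj]
  have hrest : ∀ D : S k n → S k n, ψ (rest e j D) =
      ∑ p : Par n, if p.1 ≠ j then c p * eval y (D (mono k e p)) else 0 := by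
    intro D
    rw [rest, map_sum]
    refine Finset.sum_congr rfl fun p _ => ?_
    by_cases hp : p.1 ≠ j
    · rw [dif_pos hp, if_pos hp]; simp [ψ]
    · rw [dif_neg hp, if_neg hp, map_zero]
  have hsplit : ∀ F : Par n → k, ∑ p, F p =
      (∑ p : Par n, if p.1 ≠ j then F p else 0) + ∑ l, F (j, l) := by
    intro F
    have h1 : ∑ l, F (j, l) = ∑ p : Par n, if p.1 = j then F p else 0 := by
      rw [Fintype.sum_prod_type, Finset.sum_comm]
      simp
    rw [h1, ← Finset.sum_add_distrib]
    exact Finset.sum_congr rfl fun p _ => by by_cases hp : p.1 = j <;> simp [hp]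
  have hf0 : ψ (rest e j id) + ∑ l, c (j, l) * y l = 0 := by
    refine Eq.trans ?_ hfy
    rw [hrest, member, map_sum, hsplit fun p => eval y (C (c p) * mono k e p)]
    simp [mono, hyj]
  have hg0 : ∀ l, ψ (rest e j (pderiv l)) + c (j, l)
      + (if l = j then (e : k) * ∑ m, c (j, m) * y m else 0) = ∑ i, a i * eval y (pderiv l (g i)) := by
    intro l
    rw [← hbad l, member, map_sum, map_sum,
      hsplit fun p => eval y (pderiv l (C (c p) * mono k e p)), hrest, add_assoc]
    refine congrArg₂ (· + ·) ?_ ?_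
    · refine Finset.sum_congr rfl fun p _ => ?_
      simp
    · simp only [pderiv_C_mul, map_mul, eval_C, eval_pderiv_mono e j l _ y hyj, mul_add,
        Finset.sum_add_distrib, mul_ite, mul_one, mul_zero, Finset.sum_ite_eq, Finset.mem_univ, if_true]
      rw [add_comm (c (j, l))]
      refine congrArg (· + c (j, l)) ?_
      split_ifs with hl
      · rw [Finset.mul_sum]
        exact Finset.sum_congr rfl fun m _ => by ring
      · simp
  have hcomp : ψ.comp (incl g e j).toRingHom = eval c := by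
    refine ringHom_ext (fun x => ?_) fun p => ?_
    · change ψ (incl g e j (C x)) = _
      rw [← MvPolynomial.algebraMap_eq, AlgHom.commutes]
      simp [ψ, MvPolynomial.algebraMap_eq]
    · change ψ (incl g e j (X p)) = eval c (X p)
      rw [eval_X, incl, aeval_X]
      by_cases hp : p.1 ≠ j
      · rw [dif_pos hp]; simp [ψ]
      · obtain ⟨p1, l⟩ := p
        obtain rfl : p1 = j := not_not.1 hp
        rw [dif_neg hp, map_add, map_sub, map_sum]
        have h1 : ∀ i, ψ (X (Sum.inr i) * C (pderiv l (g i))) = a i * eval y (pderiv l (g i)) :=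
          fun i => by simp [ψ]
        simp only [h1, apply_ite ψ, map_mul, map_natCast, map_zero]
        rw [← hg0 l]
        split_ifs with hl
        · rw [eq_neg_of_add_eq_zero_left hf0]; ring
        · ring
  rw [← hcomp, RingHom.comp_apply]
  exact hψK hh

theorem exists_poly {d : Fin s → ℕ} (hd : ∀ i, (g i).IsHomogeneous (d i)) (hs : s ≤ n) (hg : Smooth g)
    (e : ℕ) :
    ∃ h : MvPolynomial (Par n) k, h ≠ 0 ∧ ∀ c, eval c h ≠ 0 →
      ∀ y : Fin (n + 1) → k, y ≠ 0 → (∀ i, eval y (g i) = 0) → eval y (member e c) = 0 →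
        ∀ a : Fin s → k,
          ¬ ∀ l, eval y (pderiv l (member e c)) = ∑ i, a i * eval y (pderiv l (g i)) := by
  classical
  choose h h0 hh using exists_ne_zero_mem_chartIdeal hd hs hg e
  refine ⟨∏ j, h j, Finset.prod_ne_zero_iff.2 fun j _ => h0 j, fun c hc y hy hgy hfy a hbad => ?_⟩
  rw [map_prod, Finset.prod_ne_zero_iff] at hc
  obtain ⟨j, hj⟩ := Function.ne_iff.1 hy
  rw [Pi.zero_apply] at hj
  set t := (y j)⁻¹ with ht
  have ht0 : t ≠ 0 := inv_ne_zero hj
  refine hc j (Finset.mem_univ j) (eval_mem_zero_of_bad e j c (t • y)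
    (by simp [ht, inv_mul_cancel₀ hj])
    (fun i => by rw [eval_smul_of_isHomogeneous (hd i), hgy i, mul_zero])
    (by rw [eval_smul_of_isHomogeneous (isHomogeneous_member e c), hfy, mul_zero])
    (fun i => a i * t ^ e * (t ^ (d i - 1))⁻¹) (fun l => ?_) (h j) (hh j))
  rw [eval_smul_of_isHomogeneous (isHomogeneous_member e c).pderiv, Nat.add_sub_cancel, hbad l,
    Finset.mul_sum]
  refine Finset.sum_congr rfl fun i _ => ?_
  rw [eval_smul_of_isHomogeneous (hd i).pderiv]
  field_simp

end Groth.Agent.CIBert31
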