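import Groth.Agent.CIBert31.Generic
import Groth.Agent.CAlg9.ProjNormal.Basic

/-!
Existence of nonsingular complete intersections of given degrees.
-/

set_option autoImplicit false
universe u

namespace Groth.Agent.CIBert31

open MvPolynomial

variable {k : Type u} [Field k] [IsAlgClosed k] {n : ℕ}

omit [IsAlgClosed k] in
theorem smooth_empty : Smooth (fun i : Fin 0 => (i.elim0 : MvPolynomial (Fin (n + 1)) k)) :=
  fun _ _ _ => linearIndependent_empty_type

omit [IsAlgClosed k] in
theorem eval_zero_member (e : ℕ) (c : Par n → k) : eval (0 : Fin (n + 1) → k) (member e c) = 0 := by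
  simp [member, mono]

omit [IsAlgClosed k] in
theorem smooth_snoc {s : ℕ} {g : Fin s → MvPolynomial (Fin (n + 1)) k} (hg : Smooth g)
    (f : MvPolynomial (Fin (n + 1)) k)
    (h : ∀ y : Fin (n + 1) → k, y ≠ 0 → (∀ i, eval y (g i) = 0) → eval y f = 0 →
      ∀ a : Fin s → k, ¬ ∀ l, eval y (pderiv l f) = ∑ i, a i * eval y (pderiv l (g i))) :
    Smooth (Fin.snoc g f : Fin (s + 1) → MvPolynomial (Fin (n + 1)) k) := by
  intro y hy hv
  have hgy : ∀ i, eval y (g i) = 0 := fun i => by simpa using hv i.castSucc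
  have hfy : eval y f = 0 := by simpa using hv (Fin.last s)
  rw [Fintype.linearIndependent_iff]
  intro a ha
  have hl : ∀ l, (∑ i : Fin s, a i.castSucc * eval y (pderiv l (g i))) +
      a (Fin.last s) * eval y (pderiv l f) = 0 := fun l => by
    have := congrFun ha l
    simpa [Fin.sum_univ_castSucc, Finset.sum_apply] using this
  have hlast : a (Fin.last s) = 0 := by
    by_contra h0
    refine h y hy hgy hfy (fun i => -(a i.castSucc / a (Fin.last s))) fun l => ?_
    refine mul_left_cancel₀ h0 ?_
    rw [Finset.mul_sum]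
    have e : ∀ i : Fin s, a (Fin.last s) * (-(a i.castSucc / a (Fin.last s)) * eval y (pderiv l (g i))) =
        -(a i.castSucc * eval y (pderiv l (g i))) := fun i => by field_simp
    rw [Finset.sum_congr rfl fun i _ => e i, Finset.sum_neg_distrib, eq_neg_iff_add_eq_zero, add_comm]
    exact hl l
  intro i
  cases i using Fin.lastCases with
  | last => exact hlast
  | cast i =>
    exact Fintype.linearIndependent_iff.1 (hg y hy hgy) (fun i => a i.castSucc) (by
      ext l
      simpa [Finset.sum_apply, hlast] using hl l) i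

theorem exists_family : ∀ (r : ℕ), r ≤ n + 1 → ∀ d : Fin r → ℕ, (∀ i, 0 < d i) →
    ∃ f : Fin r → MvPolynomial (Fin (n + 1)) k, (∀ i, (f i).IsHomogeneous (d i)) ∧
      (∀ i, eval 0 (f i) = 0) ∧ Smooth f ∧ ∀ i, Smooth (fun _ : Fin 1 => f i) := by
  intro r
  induction r with
  | zero =>
    intro _ d _
    exact ⟨fun i => i.elim0, fun i => i.elim0, fun i => i.elim0, smooth_empty, fun i => i.elim0⟩
  | succ r ih =>
    intro hr d hd
    obtain ⟨g, hg, hg0, hgs, hg1⟩ := ih (by omega) (Fin.init d) (fun i => hd _)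
    obtain ⟨h, h0, hh⟩ := exists_poly hg (by omega) hgs (d (Fin.last r) - 1)
    obtain ⟨h', h0', hh'⟩ := exists_poly (g := fun i : Fin 0 => (i.elim0 : MvPolynomial (Fin (n + 1)) k))
      (d := fun i => i.elim0) (fun i => i.elim0) (Nat.zero_le n) smooth_empty (d (Fin.last r) - 1)
    obtain ⟨c, hc⟩ : ∃ c, eval c (h * h') ≠ 0 := by
      by_contra hne
      push Not at hne
      exact mul_ne_zero h0 h0' (MvPolynomial.funext fun x => by rw [hne x, map_zero])
    rw [map_mul, mul_ne_zero_iff] at hc
    set f := member (d (Fin.last r) - 1) c with hf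
    have hfh : f.IsHomogeneous (d (Fin.last r)) := by
      have := isHomogeneous_member (d (Fin.last r) - 1) c
      rwa [Nat.sub_add_cancel (hd _)] at this
    refine ⟨Fin.snoc g f, fun i => ?_, fun i => ?_, smooth_snoc hgs f (hh c hc.1), fun i => ?_⟩
    · cases i using Fin.lastCases with
      | last => simpa using hfh
      | cast i => simpa [Fin.init] using hg i
    · cases i using Fin.lastCases with
      | last => rw [Fin.snoc_last, hf]; exact eval_zero_member _ _
      | cast i => simpa using hg0 i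
    · cases i using Fin.lastCases with
      | last =>
        have := smooth_snoc smooth_empty f (hh' c hc.2)
        convert this using 2 with j
        rw [Subsingleton.elim j (Fin.last 0), Fin.snoc_last, Fin.snoc_last]
      | cast i => simpa using hg1 i

theorem main (r : ℕ) (hr : r < n) (d : Fin r → ℕ) (hd : ∀ i, 0 < d i) :
    ∃ f : Fin r → MvPolynomial (Fin (n + 1)) k,
      (∀ i, (f i).IsHomogeneous (d i)) ∧
      (∀ (i : Fin r) (Q : Ideal (MvPolynomial (Fin (n + 1)) k ⧸ Ideal.span {f i})) [Q.IsPrime],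
        (∃ j, Ideal.Quotient.mk (Ideal.span {f i}) (MvPolynomial.X j) ∉ Q) →
          IsRegularLocalRing (Localization.AtPrime Q)) ∧
      IsDomain (MvPolynomial (Fin (n + 1)) k ⧸ Ideal.span (Set.range f)) ∧
      (Ideal.span (Set.range f)).height = r ∧
      ∀ (Q : Ideal (MvPolynomial (Fin (n + 1)) k ⧸ Ideal.span (Set.range f))) [Q.IsPrime],
        (∃ j, Ideal.Quotient.mk (Ideal.span (Set.range f)) (MvPolynomial.X j) ∉ Q) →
          IsRegularLocalRing (Localization.AtPrime Q) := by
  obtain ⟨f, hf, hf0, hfs, hf1⟩ := exists_family (k := k) (n := n) r (by omega) d hd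
  have hreg := fun (Q : Ideal (MvPolynomial (Fin (n + 1)) k ⧸ Ideal.span (Set.range f))) [Q.IsPrime]
    (hQ : ∃ j, Ideal.Quotient.mk (Ideal.span (Set.range f)) (MvPolynomial.X j) ∉ Q) =>
      regular_cone f hfs _ rfl Q hQ
  have hht := height_span_eq f hr.le hfs hf0
  refine ⟨f, hf, fun i Q _ hQ => regular_cone (fun _ : Fin 1 => f i) (hf1 i) _ (by rw [Set.range_const]) Q hQ,
    (CAlg9.ProjNormal.isDomain_and_isIntegrallyClosed hr f d hf hd hht fun Q _ hQ => ?_).1, hht, hreg⟩
  have := hreg Q hQ
  exact ⟨CAlg1.isDomain_regular (Localization.AtPrime Q), CAlg6.isIntegrallyClosed_of_regular (Localization.AtPrime Q)⟩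

end Groth.Agent.CIBert31
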