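import Groth.Agent.CAlg1.Regular
import Groth.Agent.CAlg1.Serre
import Groth.Agent.CAlg6.RegularNormal

/-!
Quotients of regular local rings by elements with independent images in the cotangent space.
-/

set_option autoImplicit false
universe u

namespace Groth.Agent.CIBert31

open IsLocalRing

/-- Independence modulo the square of the maximal ideal. -/
def IndepSq {R : Type u} [CommRing R] [IsLocalRing R] {r : ℕ} (x : Fin r → R) : Prop :=
  ∀ a : Fin r → R, ∑ i, a i * x i ∈ maximalIdeal R ^ 2 → ∀ i, a i ∈ maximalIdeal R

theorem span_range_cons {R : Type u} [CommRing R] {r : ℕ} (x : Fin (r + 1) → R) :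
    Ideal.span (Set.range x) = Ideal.span {x 0} ⊔ Ideal.span (Set.range (Fin.tail x)) := by
  rw [← Ideal.span_union, Set.singleton_union, ← Fin.range_cons, Fin.cons_self_tail]

theorem regular_quotient_indep :
    ∀ (r : ℕ) {R : Type u} [CommRing R] [IsRegularLocalRing R] (x : Fin r → R),
      (∀ i, x i ∈ maximalIdeal R) → IndepSq x →
      IsRegularLocalRing (R ⧸ Ideal.span (Set.range x)) := by
  intro r
  induction r with
  | zero =>
    intro R _ _ x _ _
    rw [Set.range_eq_empty, Ideal.span_empty]
    exact IsRegularLocalRing.of_ringEquiv (RingEquiv.quotientBot R).symm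
  | succ r ih =>
    intro R _ _ x hx hind
    classical
    have h0 : x 0 ∉ maximalIdeal R ^ 2 := fun h => by
      have := hind (Pi.single 0 1) (by simpa [Pi.single_apply] using h) 0
      simp at this
    obtain ⟨hreg, -⟩ := CAlg1.regular_quotient_singleton (hx 0) h0
    set q := Ideal.Quotient.mk (Ideal.span ({x 0} : Set R)) with hq
    let y : Fin r → R ⧸ Ideal.span ({x 0} : Set R) := fun i => q (x i.succ)
    have hmax : maximalIdeal (R ⧸ Ideal.span ({x 0} : Set R)) = (maximalIdeal R).map q :=
      CAlg1.maximalIdeal_quotient _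
    have hy : ∀ i, y i ∈ maximalIdeal (R ⧸ Ideal.span ({x 0} : Set R)) := fun i => by
      rw [hmax]; exact Ideal.mem_map_of_mem q (hx _)
    have hind' : IndepSq y := by
      intro a ha i
      choose b hb using fun i => Ideal.Quotient.mk_surjective (a i)
      rw [hmax, ← Ideal.map_pow] at ha
      have h1 : q (∑ i, b i * x i.succ) = ∑ i, a i * y i := by
        simp [q, y, map_sum, hb]
      rw [← h1] at ha
      obtain ⟨z, hz, hzq⟩ := (Ideal.mem_map_iff_of_surjective q Ideal.Quotient.mk_surjective).1 ha
      obtain ⟨c, hc⟩ := Ideal.mem_span_singleton'.1 (Ideal.Quotient.eq.1 hzq)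
      have hsum : ∑ l, (Fin.cons c b : Fin (r + 1) → R) l * x l ∈ maximalIdeal R ^ 2 := by
        rw [Fin.sum_univ_succ]
        simp only [Fin.cons_zero, Fin.cons_succ]
        rw [hc, sub_add_cancel]
        exact hz
      have := hind _ hsum i.succ
      rw [Fin.cons_succ] at this
      rw [← hb i, hmax]
      exact Ideal.mem_map_of_mem q this
    have := ih y hy hind'
    have hrange : Ideal.span (Set.range y) = (Ideal.span (Set.range (Fin.tail x))).map q := by
      rw [Ideal.map_span, ← Set.range_comp]; rfl
    rw [hrange] at this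
    exact IsRegularLocalRing.of_ringEquiv ((DoubleQuot.quotQuotEquivQuotSup _ _).trans
      (Ideal.quotEquivOfEq (span_range_cons x).symm))

theorem IndepSq.init {R : Type u} [CommRing R] [IsLocalRing R] {r : ℕ} {x : Fin (r + 1) → R}
    (h : IndepSq x) : IndepSq (Fin.init x) := by
  intro a ha i
  have := h (Fin.snoc a 0) (by simpa [Fin.sum_univ_castSucc, Fin.init] using ha) i.castSucc
  simpa using this

theorem le_height_indep :
    ∀ (r : ℕ) {R : Type u} [CommRing R] [IsRegularLocalRing R] (x : Fin r → R),
      (∀ i, x i ∈ maximalIdeal R) → IndepSq x →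
      (r : ℕ∞) ≤ (Ideal.span (Set.range x)).height := by
  intro r
  induction r with
  | zero => intros; simp
  | succ r ih =>
    intro R _ _ x hx hind
    have hreg := regular_quotient_indep (r + 1) x hx hind
    have hreg' := regular_quotient_indep r (Fin.init x) (fun i => hx _) hind.init
    have hdom := CAlg1.isDomain_regular (R ⧸ Ideal.span (Set.range x))
    have hdom' := CAlg1.isDomain_regular (R ⧸ Ideal.span (Set.range (Fin.init x)))
    have hp : (Ideal.span (Set.range x)).IsPrime := (Ideal.Quotient.isDomain_iff_prime _).1 hdom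
    have hp' : (Ideal.span (Set.range (Fin.init x))).IsPrime :=
      (Ideal.Quotient.isDomain_iff_prime _).1 hdom'
    have hlt : Ideal.span (Set.range (Fin.init x)) < Ideal.span (Set.range x) := by
      refine lt_of_le_of_ne (Ideal.span_mono (Set.range_comp_subset_range Fin.castSucc x)) fun h => ?_
      have hm : x (Fin.last r) ∈ Ideal.span (Set.range (Fin.init x)) :=
        h.symm ▸ Ideal.subset_span ⟨_, rfl⟩
      obtain ⟨a, ha⟩ := Ideal.mem_span_range_iff_exists_fun.1 hm
      have := hind (Fin.snoc (fun i => -a i) 1) (by
        rw [Fin.sum_univ_castSucc]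
        simp only [Fin.snoc_castSucc, Fin.snoc_last, one_mul, neg_mul, Finset.sum_neg_distrib]
        rw [← ha]
        simp [Fin.init]) (Fin.last r)
      simp at this
    have h1 := ih (Fin.init x) (fun i => hx _) hind.init
    push_cast
    exact (add_le_add_left h1 1).trans (Ideal.height_add_one_le_of_lt_of_isPrime hlt)

end Groth.Agent.CIBert31
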